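import Groth.Agent.Lib.Exchange.Algz.Closed
import Groth.Agent.Lib.Exchange.Thick.Twist
import Groth.Agent.Lib.TensorMod.LocFree
import Groth.Agent.Lib.TensorMod.QCohInv
import Groth.Agent.S0003
import Groth.Agent.S0051

/-!
# Algebraization of an invertible module, and its ampleness
-/

set_option autoImplicit false
set_option linter.style.haveILetI false

noncomputable section

universe u

open CategoryTheory Limits AlgebraicGeometry Opposite TopologicalSpace

namespace Groth.Agent.Lib.Exchange.Algz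

open Groth.Agent.Lib Groth.Agent.Lib.CohBasics.Affine Groth.Agent.Lib.Exchange.Thick
open Groth.Agent.H78.Formal.Sections
open Groth.Agent.Lib.TensorMod.Gen (exists_hom_of_family app_eq_smul one IsGen isInvertible_iff)
open Groth.Agent.Lib.TensorMod.Dual (rs rs_rs rs_smul)
open Groth.Agent.Lib.QCoh.Localizing (res res_smul)

/-- A quasi-coherent module which is free of rank one on the sections over an affine cover is invertible. -/
theorem isInvertible_of_cyclic {Y : Scheme.{u}} {M : Y.Modules} [M.IsQuasicoherent]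
    (h : ∀ y : Y, ∃ D : Y.Opens, IsAffineOpen D ∧ y ∈ D ∧ ∃ g : Γ(M, D),
      Function.Bijective fun a : Γ(Y, D) => a • g) : PicF.IsInvertible M := by
  intro y
  obtain ⟨D, hD, hy, g, hg⟩ := h y
  haveI : IsAffine (D : Scheme.{u}) := hD
  refine ⟨D, hy, ?_⟩
  obtain ⟨φ, hφ⟩ := exists_hom_of_family (M := M.restrict D.ι)
    (fun W => (M.restrictAppIso D.ι W).inv (rs M (D.ι_image_le W) g))
    (fun V W hVW => rs_rs M (D.ι_image_le W) (Scheme.Hom.image_mono D.ι hVW) g)
  haveI : (M.restrict D.ι).IsQuasicoherent := inferInstance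
  haveI : (Coh.structureModule (D : Scheme.{u})).IsQuasicoherent :=
    TensorMod.QCohInv.isQCoh_structureModule _
  haveI : IsIso φ := by
    refine isIso_of_cover φ fun x => ⟨⊤, isAffineOpen_top _, trivial, ?_⟩
    have hU : D.ι ''ᵁ ⊤ = D := by simp
    have hb : Function.Bijective fun a : Γ(Y, D.ι ''ᵁ ⊤) => a • rs M (D.ι_image_le ⊤) g := by
      have key : ∀ (W : Y.Opens) (e : W = D) (hle : W ≤ D),
          Function.Bijective fun a : Γ(Y, W) => a • rs M hle g := by
        rintro W rfl hle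
        have : rs M hle g = g := QCoh.Localizing.res_self hle g
        rw [this]; exact hg
      exact key _ hU _
    refine (iff_of_eq (congrArg Function.Bijective (funext fun a : Γ((D : Scheme.{u}), ⊤) => ?_))).2
      (hb.comp (ConcreteCategory.bijective_of_isIso (D.ι.appIso ⊤).inv))
    exact (app_eq_smul φ a).trans (congrArg (a • ·) (hφ ⊤))
  exact ⟨(asIso φ).symm⟩

variable {A : Type u} [CommRing A] [IsNoetherianRing A] {J : Ideal A} [IsAdicComplete J A]
  {Y : Scheme.{u}} [Y.Over (Spec (CommRingCat.of A))] [IsProper (Y ↘ Spec (CommRingCat.of A))]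
  [IsLocallyNoetherian Y] {T : Tower J} [∀ k, IsLocallyNoetherian (T.X k)]
  (w : ∀ k, T.X k ⟶ Y) [∀ k, IsClosedImmersion (w k)] (hw : ∀ k, T.i k ≫ w (k + 1) = w k)
  (hwo : ∀ k, w k ≫ (Y ↘ Spec (CommRingCat.of A)) = T.X k ↘ Spec (CommRingCat.of A))
  (hker : ∀ k, (w k).ker = jIdeal J ^ (k + 1))

include hker in
theorem ker_app (k : ℕ) {U : Y.Opens} (hU : IsAffineOpen U) :
    RingHom.ker ((w k).app U).hom = sIdeal J U ^ (k + 1) := by
  have := congrArg (fun I : Y.IdealSheafData => I.ideal ⟨U, hU⟩) (hker k)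
  simp only [Scheme.Hom.ker_apply, Scheme.IdealSheafData.ideal_pow, Pi.pow_apply, ideal_jIdeal] at this
  exact this

include hw hwo hker in
/-- **Algebraization of the invertible modules.** -/
theorem exists_bundle {O1 : Y.Modules} (hA : CohB1.IsAmple O1) (L : ∀ k, (T.X k).Modules)
    (hL : ∀ k, PicF.IsInvertible (L k))
    (φ : ∀ k, (Scheme.Modules.pullback (T.i k)).obj (L (k + 1)) ≅ L k) :
    ∃ M : Y.Modules, PicF.IsInvertible M ∧ ∀ k, Nonempty ((Scheme.Modules.pullback (w k)).obj M ≅ L k) := by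
  let F : ModSys T := ⟨L, fun k => Ample.GG.isCoh_of_isInvertible (hL k), φ⟩
  obtain ⟨M, π, hM, hπ⟩ := exists_proj hA w hw hwo F
  haveI := hM.1
  haveI := hM.2
  -- cyclic on a cover
  have hcyc : ∀ y : Y, ∃ D : Y.Opens, IsAffineOpen D ∧ y ∈ D ∧
      ∃ g : Γ(M, D), Submodule.span Γ(Y, D) {g} = ⊤ := by
    refine Local.exists_cyclic J hM fun z hz => ?_
    obtain ⟨U₁, hU₁, hzU₁⟩ := exists_affine z
    obtain ⟨x₀, hx₀⟩ : z ∈ Set.range (w 0) := by
      rw [← (w 0).isClosedEmbedding.isClosed_range.closure_eq, ← Scheme.Hom.support_ker,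
        SetLike.mem_coe, Scheme.IdealSheafData.mem_support_iff_of_mem (U := ⟨U₁, hU₁⟩) hzU₁,
        Scheme.mem_zeroLocus_iff]
      intro f hf hb
      rw [SetLike.mem_coe, Scheme.Hom.ker_apply, ker_app w hker 0 hU₁, zero_add, pow_one] at hf
      have h2 : z ∈ Y.basicOpen (1 - f) := Local.mem_basicOpen_of_sub_one J hz hzU₁ (by
        rw [sub_sub_cancel_left]; exact Ideal.neg_mem_iff _ |>.2 hf)
      let germ := (Y.presheaf.germ U₁ z hzU₁).hom
      have hle : sIdeal J U₁ ≤ (IsLocalRing.maximalIdeal (Y.presheaf.stalk z)).comap germ := by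
        rw [sIdeal, Ideal.map_le_iff_le_comap]
        intro a ha
        rw [Ideal.mem_comap, Ideal.mem_comap]
        intro hu
        refine hz a ha ?_
        have hm : z ∈ Y.basicOpen (sMap A U₁ a) := (Y.mem_basicOpen _ z hzU₁).2 hu
        rw [← res_sMap (le_top (a := U₁)) a] at hm
        exact ((Scheme.basicOpen_res Y _ _).le hm).2
      exact hle hf ((Y.mem_basicOpen f z hzU₁).1 hb)
    obtain ⟨V, e, hxV, he⟩ := isInvertible_iff.1 (hL 0) x₀
    obtain ⟨W, hW, hWV⟩ := (w 0).isClosedEmbedding.isInducing.isOpen_iff.1 V.2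
    obtain ⟨U, hU, hzU, hUW⟩ := exists_isAffineOpen_mem_and_subset (X := Y) (x := z) (U := ⟨W, hW⟩)
      (show z ∈ W by rw [← hx₀]; exact hWV.ge hxV)
    have hle : w 0 ⁻¹ᵁ U ≤ V := fun x hx => hWV.le (hUW hx)
    obtain ⟨g, hg⟩ := (hπ 0 U hU).1 (rs (L 0) hle e)
    refine ⟨U, hU, hzU, g, fun v _ => ?_⟩
    obtain ⟨r', hr'⟩ := (he _ hle).2 ((π 0).app U v)
    obtain ⟨r, hr⟩ := (w 0).app_surjective U hU r'
    have h0 : (π 0).app U (v - r • g) = 0 := by
      rw [map_sub, sub_eq_zero]
      refine Eq.symm (((π 0).app_smul r g).trans ?_)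
      rw [hg]
      exact (congrArg (fun c : Γ(T.X 0, w 0 ⁻¹ᵁ U) => c • rs (L 0) hle e) hr).trans hr'
    have h1 := ((hπ 0 U hU).2 _).1 h0
    rw [zero_add, pow_one] at h1
    exact Submodule.mem_sup.2 ⟨r • g, Submodule.smul_mem _ _ (Submodule.mem_span_singleton_self g), _, h1,
      add_sub_cancel _ _⟩
  -- the annihilator vanishes
  have hfaith : ∀ k (V : (T.X k).Opens), IsAffineOpen V →
      Module.annihilator Γ(T.X k, V) Γ(L k, V) = ⊥ := by
    intro k
    haveI := (F.coh k).1
    haveI := (F.coh k).2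
    have h0 : ZarCoh.AnnIdeal.annIdeal (L k) = ⊥ := by
      choose W e hxW he using isInvertible_iff.1 (hL k)
      choose W' hW' hxW' hle using fun x =>
        exists_isAffineOpen_mem_and_subset (X := T.X k) (x := x) (U := W x) (hxW x)
      refine Scheme.IdealSheafData.ext_of_iSup_eq_top (fun x => ⟨W' x, hW' x⟩)
        (eq_top_iff.2 fun x _ => Opens.mem_iSup.2 ⟨x, hxW' x⟩) fun x => ?_
      rw [ZarCoh.AnnIdeal.annIdeal_ideal, Scheme.IdealSheafData.ideal_bot]
      refine eq_bot_iff.2 fun a ha => (he x _ (hle x)).1 ?_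
      exact (Module.mem_annihilator.1 ha _).trans (zero_smul _ _).symm
    intro V hV
    have := congrArg (fun I : (T.X k).IdealSheafData => I.ideal ⟨V, hV⟩) h0
    rwa [ZarCoh.AnnIdeal.annIdeal_ideal, Scheme.IdealSheafData.ideal_bot] at this
  have hann : ZarCoh.AnnIdeal.annIdeal M = ⊥ := by
    refine Local.eq_bot_of_le_pow J _ fun U n => ?_
    rw [ZarCoh.AnnIdeal.annIdeal_ideal, ← ker_app w hker n U.2]
    intro a ha
    rw [RingHom.mem_ker, ← Submodule.mem_bot Γ(T.X n, w n ⁻¹ᵁ U.1), ← hfaith n _ (U.2.preimage (w n)),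
      Module.mem_annihilator]
    intro s
    obtain ⟨v, hv⟩ := (hπ n U.1 U.2).1 s
    have h := (π n).app_smul a v
    rw [Module.mem_annihilator.1 ha v, map_zero, hv] at h
    exact h.symm
  refine ⟨M, isInvertible_of_cyclic fun y => ?_, fun k => ?_⟩
  · obtain ⟨D, hD, hy, g, hg⟩ := hcyc y
    refine ⟨D, hD, hy, g, fun a b hab => ?_, fun v => Submodule.mem_span_singleton.1
      (show v ∈ Submodule.span Γ(Y, D) {g} by rw [hg]; trivial)⟩
    have hm : a - b ∈ Module.annihilator Γ(Y, D) Γ(M, D) := by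
      rw [Module.mem_annihilator]
      intro v
      obtain ⟨c, rfl⟩ := Submodule.mem_span_singleton.1
        (show v ∈ Submodule.span Γ(Y, D) {g} by rw [hg]; trivial)
      rw [smul_comm, sub_smul, show a • g = b • g from hab, sub_self, smul_zero]
    have h0 := congrArg (fun I : Y.IdealSheafData => I.ideal ⟨D, hD⟩) hann
    rw [ZarCoh.AnnIdeal.annIdeal_ideal, Scheme.IdealSheafData.ideal_bot] at h0
    rw [h0] at hm
    exact sub_eq_zero.1 hm
  · haveI := (F.coh k).1
    haveI hc := Cyc.PP.Push.isCoh_push (w k) (F.coh k)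
    haveI := hc.1
    let adj := Scheme.Modules.pullbackPushforwardAdjunction (w k)
    let ψ := (adj.homEquiv M (L k)).symm (π k)
    have hψ : Unit.η (w k) M ≫ (Scheme.Modules.pushforward (w k)).map ψ = π k :=
      (Adjunction.homEquiv_unit _ _ _ _).symm.trans (Equiv.apply_symm_apply _ _)
    haveI : IsIso ((Scheme.Modules.pushforward (w k)).map ψ) := by
      haveI := (Unit.isCoh_pushPull (w k) hM).1
      refine isIso_of_cover _ fun y => ?_
      obtain ⟨U, hU, hy⟩ := exists_affine y
      have e : ∀ s, ((Scheme.Modules.pushforward (w k)).map ψ).app U ((Unit.η (w k) M).app U s) =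
          (π k).app U s := fun s => ConcreteCategory.congr_hom (congrArg (fun t => t.app U) hψ) s
      refine ⟨U, hU, hy, (injective_iff_map_eq_zero _).2 fun z hz => ?_, fun s => ?_⟩
      · obtain ⟨s, rfl⟩ := Unit.surjective_app (w k) hM hU z
        rw [e] at hz
        rw [Unit.app_eq_zero_iff (w k) hM hU, Scheme.Hom.ker_apply, ker_app w hker k hU]
        exact ((hπ k U hU).2 s).1 hz
      · obtain ⟨v, hv⟩ := (hπ k U hU).1 s
        exact ⟨(Unit.η (w k) M).app U v, (e v).trans hv⟩
    haveI : ∀ N, IsIso (adj.counit.app N) := fun N => Cyc.Dev.SchemeCase.isIso_counit (w k) N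
    haveI : IsIso adj.counit := NatIso.isIso_of_isIso_app _
    haveI := adj.fullyFaithfulROfIsIsoCounit.full
    haveI := adj.fullyFaithfulROfIsIsoCounit.faithful
    haveI : IsIso ψ := isIso_of_fully_faithful (Scheme.Modules.pushforward (w k)) ψ
    exact ⟨asIso ψ⟩

include hw hwo hker in
/-- An invertible module with ample restriction to the bottom level is ample. -/
theorem isAmple_of_zero (hp : IsProper (T.p 0)) {M : Y.Modules} (hM : PicF.IsInvertible M)
    (ha : CohB1.IsAmple ((Scheme.Modules.pullback (w 0)).obj M)) : CohB1.IsAmple M := by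
  refine (Groth.Agent.S0051.result A Y (Y ↘ Spec (CommRingCat.of A)) M hM).2 fun G hG => ?_
  let L : ∀ k, (T.X k).Modules := fun k => (Scheme.Modules.pullback (w k)).obj M
  let F : ModSys T :=
    { M := fun k => (Scheme.Modules.pullback (w k)).obj G
      coh := fun k => Cyc.FP.Stalk.isCoh_pullback _ hG
      iso := fun k => (Scheme.Modules.pullbackComp (T.i k) (w (k + 1))).app G ≪≫
        (Scheme.Modules.pullbackCongr (hw k)).app G }
  obtain ⟨d₀, hd⟩ := F.exists_vanish hp L (fun k => PicLoc.isInvertible_pullback _ hM)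
    (fun k => (Scheme.Modules.pullbackComp (T.i k) (w (k + 1))).app M ≪≫
      (Scheme.Modules.pullbackCongr (hw k)).app M) ha
  refine ⟨d₀, fun d hd' p hp' => ?_⟩
  obtain ⟨q, rfl⟩ : ∃ q, p = q + 1 := ⟨p - 1, by omega⟩
  let N := CohB1.tensorMod G (CohB1.tensorPow M d)
  have hN : Coh.IsCoh N := RefHull.Tensor.isCoh_tensorMod hG
    (Ample.GG.isCoh_of_isInvertible (TensorMod.Invertible.isInvertible_tensorPow hM d))
  haveI := hN.1
  have hsub : ∀ n, Subsingleton (_root_.Formal.HHmodPow J N (q + 1) n) := by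
    intro n
    let P := (Scheme.Modules.pullback (w n)).obj N
    haveI : P.IsQuasicoherent := (Cyc.FP.Stalk.isCoh_pullback (w n) hN).1
    haveI := (Unit.isCoh_pushPull (w n) hN).1
    obtain ⟨h, hiso⟩ := Groth.Agent.H78.Formal.Sys.exists_isIso_desc (J ^ (n + 1)) (Unit.η (w n) N)
      (fun U hU => Unit.surjective_app (w n) hN hU) fun U hU s => by
        rw [Unit.app_eq_zero_iff (w n) hN hU, Scheme.Hom.ker_apply, ker_app w hker n hU, sIdeal_pow]
    haveI := hiso
    haveI h1 : Subsingleton (Coh.HH (T.X n) P (q + 1)) :=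
      @Equiv.subsingleton _ _ (Curves.LES.isoK A (TensorMod.Pullback.pullbackTensorIso (w n) G _ ≪≫
        TensorMod.Basic.tensorIso (Iso.refl _) (Ample.Pow.pullbackPow (w n) M d)) (q + 1)).toEquiv
        (hd d hd' n q)
    haveI h2 : Subsingleton (Coh.HH Y ((Coh.push (w n)).obj P) (q + 1)) :=
      (ZarCoh.Morph.affineEquiv (w n) P (q + 1)).toEquiv.subsingleton
    exact @Equiv.subsingleton _ _ (Curves.LES.isoK A
      (asIso (cokernel.desc (_root_.Formal.smulFamily (J ^ (n + 1)) N) (Unit.η (w n) N) h)) (q + 1)).toEquiv h2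
  refine subsingleton_of_forall_eq 0 fun x => (Groth.Agent.S0003.result A J Y N hN (q + 1)).1 ?_
  exact Subtype.ext (funext fun n => (hsub n).elim _ _)

end Groth.Agent.Lib.Exchange.Algz
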