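import Groth.Agent.H78.Formal.Sections
import Groth.Agent.Lib.QCoh.Localizing
import Groth.Agent.Lib.CohBasics.Affine
import Mathlib.RingTheory.AdicCompletion.Basic
import Mathlib.RingTheory.Filtration
import Mathlib.RingTheory.Nakayama

/-!
# Properties near the closed fibre of a proper scheme over a complete base hold everywhere
-/

set_option autoImplicit false
set_option linter.style.haveILetI false

noncomputable section

universe u

open CategoryTheory Limits AlgebraicGeometry Opposite TopologicalSpace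

namespace Groth.Agent.Lib.Exchange.Algz.Local

open Groth.Agent.Lib Groth.Agent.Lib.QCoh.Localizing Groth.Agent.H78.Formal.Sections

variable {A : Type u} [CommRing A] (J : Ideal A) {X : Scheme.{u}} [X.Over (Spec (CommRingCat.of A))]

/-- The points over `V(J)`. -/
def fibre : Set X := {z | ∀ a ∈ J, z ∉ X.basicOpen (sMap A ⊤ a)}

/-- An element congruent to `1` modulo `J` does not vanish at a point over `V(J)`. -/
theorem mem_basicOpen_of_sub_one {z : X} (hz : z ∈ fibre J (X := X)) {U : X.Opens} (hzU : z ∈ U)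
    {f : Γ(X, U)} (hf : f - 1 ∈ sIdeal J U) : z ∈ X.basicOpen f := by
  let germ := (X.presheaf.germ U z hzU).hom
  have hle : sIdeal J U ≤ (IsLocalRing.maximalIdeal (X.presheaf.stalk z)).comap germ := by
    rw [sIdeal, Ideal.map_le_iff_le_comap]
    intro a ha
    rw [Ideal.mem_comap, Ideal.mem_comap]
    intro hu
    refine hz a ha ?_
    have e : sMap A U a = X.presheaf.map (homOfLE (le_top (a := U))).op (sMap A ⊤ a) :=
      (res_sMap le_top a).symm
    have hm : z ∈ X.basicOpen (sMap A U a) := (X.mem_basicOpen _ z hzU).2 hu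
    rw [e, Scheme.basicOpen_res] at hm
    exact hm.2
  by_contra hn
  have h1 : germ f ∈ IsLocalRing.maximalIdeal (X.presheaf.stalk z) := fun hu =>
    hn ((X.mem_basicOpen _ z hzU).2 hu)
  have h2 := hle hf
  rw [Ideal.mem_comap, map_sub, map_one] at h2
  have := Ideal.sub_mem _ h1 h2
  rw [sub_sub_cancel] at this
  exact (IsLocalRing.maximalIdeal.isMaximal _).ne_top ((Ideal.eq_top_iff_one _).2 this)

variable [IsAdicComplete J A] [IsProper (X ↘ Spec (CommRingCat.of A))]

/-- Every point specializes to a point over `V(J)`. -/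
theorem exists_specializes (x : X) : ∃ z ∈ fibre J (X := X), x ⤳ z := by
  let q := X ↘ Spec (CommRingCat.of A)
  obtain ⟨m, hm, hle⟩ := Ideal.exists_le_maximal _ (q x).2.ne_top
  have hsp : q x ⤳ (⟨m, hm.isPrime⟩ : PrimeSpectrum A) :=
    (PrimeSpectrum.le_iff_specializes _ _).1 hle
  obtain ⟨z, hzx, hz⟩ := hsp.mem_closed (q.isClosedMap _ (isClosed_closure (s := {x})))
    ⟨x, subset_closure rfl, rfl⟩
  refine ⟨z, fun a ha hb => ?_, specializes_iff_mem_closure.2 hzx⟩
  have hJm : J ≤ m := (IsAdicComplete.le_jacobson_bot J).trans (sInf_le ⟨bot_le, hm⟩)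
  have e : sMap A (⊤ : X.Opens) a = q.appTop ((Scheme.ΓSpecIso (CommRingCat.of A)).inv a) := by
    change X.presheaf.map (homOfLE (le_top (a := (⊤ : X.Opens)))).op _ = _
    rw [Subsingleton.elim (homOfLE (le_top (a := (⊤ : X.Opens)))).op (𝟙 _), CategoryTheory.Functor.map_id]
    rfl
  rw [e] at hb
  have hb' : z ∈ q ⁻¹ᵁ (Spec (CommRingCat.of A)).basicOpen
      ((Scheme.ΓSpecIso (CommRingCat.of A)).inv a) := by
    rw [Scheme.preimage_basicOpen]; exact hb
  have hb'' : q z ∈ (Spec (CommRingCat.of A)).basicOpen ((Scheme.ΓSpecIso (CommRingCat.of A)).inv a) := hb'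
  rw [show q z = (⟨m, hm.isPrime⟩ : PrimeSpectrum A) from hz, basicOpen_eq_of_affine] at hb''
  exact hb'' (hJm ha)

/-- A local property which spreads from the fibre holds on an affine cover. -/
theorem exists_cover (P : X.Opens → Prop)
    (h : ∀ z ∈ fibre J (X := X), ∃ U : X.Opens, IsAffineOpen U ∧ z ∈ U ∧
      ∃ f : Γ(X, U), f - 1 ∈ sIdeal J U ∧ P (X.basicOpen f)) (x : X) :
    ∃ D : X.Opens, IsAffineOpen D ∧ x ∈ D ∧ P D := by
  obtain ⟨z, hz, hxz⟩ := exists_specializes J x
  obtain ⟨U, hU, hzU, f, hf, hP⟩ := h z hz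
  exact ⟨X.basicOpen f, hU.basicOpen f,
    hxz.mem_open (X.basicOpen f).2 (mem_basicOpen_of_sub_one J hz hzU hf), hP⟩

variable [IsLocallyNoetherian X]

/-- Cyclic modulo `J` on every affine open implies locally cyclic. -/
theorem exists_cyclic {M : X.Modules} (hM : Coh.IsCoh M)
    (h : ∀ z ∈ fibre J (X := X), ∃ U : X.Opens, IsAffineOpen U ∧ z ∈ U ∧ ∃ g : Γ(M, U),
      ⊤ ≤ Submodule.span Γ(X, U) {g} ⊔ sIdeal J U • (⊤ : Submodule Γ(X, U) Γ(M, U))) (x : X) :
    ∃ D : X.Opens, IsAffineOpen D ∧ x ∈ D ∧ ∃ g : Γ(M, D), Submodule.span Γ(X, D) {g} = ⊤ := by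
  haveI := hM.1
  haveI := hM.2
  refine exists_cover J (fun D => ∃ g : Γ(M, D), Submodule.span Γ(X, D) {g} = ⊤) (fun z hz => ?_) x
  obtain ⟨U, hU, hzU, g, hg⟩ := h z hz
  obtain ⟨f, hf, hfg⟩ := Submodule.exists_sub_one_mem_and_smul_le_of_fg_of_le_sup
    (CohBasics.Affine.finite_sections (M := M) hU).fg_top le_rfl hg
  let D := X.basicOpen f
  let le : D ≤ U := X.basicOpen_le f
  refine ⟨U, hU, hzU, f, hf, res M le g, eq_top_iff.2 fun w _ => ?_⟩
  obtain ⟨n, t, ht⟩ := (localizes_of_isAffineOpen M hU f).ext' w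
  have hu : IsUnit (resR le f) := RingedSpace.isUnit_res_basicOpen (X := X.toLocallyRingedSpace.toRingedSpace) f
  obtain ⟨c, hc⟩ := Submodule.mem_span_singleton.1 (hfg (Submodule.smul_mem_pointwise_smul t f ⊤ trivial))
  have h1 : resR le f ^ (n + 1) • w = resR le c • res M le g := by
    rw [pow_succ', mul_smul, ← ht, ← res_smul, ← hc, res_smul]
  obtain ⟨v, hv⟩ := (hu.pow (n + 1)).exists_left_inv
  have h2 := congrArg (v • ·) h1
  simp only [← mul_smul, hv, one_smul] at h2
  rw [h2]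
  exact Submodule.smul_mem _ _ (Submodule.mem_span_singleton_self _)

/-- An ideal sheaf contained in all the powers of `J` vanishes. -/
theorem eq_bot_of_le_pow (I : X.IdealSheafData)
    (h : ∀ (U : X.affineOpens) (n : ℕ), I.ideal U ≤ sIdeal J U.1 ^ (n + 1)) : I = ⊥ := by
  have key : ∀ x : X, ∃ D : X.affineOpens, x ∈ D.1 ∧ I.ideal D = ⊥ := by
    intro x
    suffices hh : ∀ U : X.Opens, IsAffineOpen U → ∃ f : Γ(X, U), f - 1 ∈ sIdeal J U ∧
        ∃ hD : IsAffineOpen (X.basicOpen f), I.ideal ⟨X.basicOpen f, hD⟩ = ⊥ by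
      obtain ⟨D, hD, hx, hD', h0⟩ := exists_cover J
        (fun D => ∃ hD : IsAffineOpen D, I.ideal ⟨D, hD⟩ = ⊥)
        (fun z _ => by
          obtain ⟨U, hU, hzU⟩ := exists_affine z
          exact ⟨U, hU, hzU, hh U hU⟩) x
      exact ⟨⟨D, hD'⟩, hx, h0⟩
    intro U hU
    haveI : IsNoetherianRing Γ(X, U) := IsLocallyNoetherian.component_noetherian ⟨U, hU⟩
    let N : Submodule Γ(X, U) Γ(X, U) := sIdeal J U • I.ideal ⟨U, hU⟩
    have hle : I.ideal ⟨U, hU⟩ ≤ N := by
      intro a ha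
      obtain ⟨r, hr⟩ := (Ideal.mem_iInf_smul_pow_eq_bot_iff (sIdeal J U) a).1 (by
        rw [Submodule.mem_iInf]
        rintro (_ | n)
        · rw [pow_zero, Ideal.one_eq_top, Submodule.top_smul]; trivial
        · rw [smul_eq_mul, Ideal.mul_top]; exact h ⟨U, hU⟩ n ha)
      rw [← hr]
      exact Submodule.smul_mem_smul r.2 ha
    obtain ⟨f, hf, hf0⟩ := Submodule.exists_sub_one_mem_and_smul_eq_zero_of_fg_of_le_smul (sIdeal J U)
      (I.ideal ⟨U, hU⟩) (IsNoetherian.noetherian _) hle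
    refine ⟨f, hf, hU.basicOpen f, ?_⟩
    have e := (I.map_ideal_basicOpen ⟨U, hU⟩ f).symm
    refine e.trans (eq_bot_iff.2 (Ideal.map_le_iff_le_comap.2 fun a ha => ?_))
    rw [Ideal.mem_comap, Ideal.mem_bot]
    have hu : IsUnit (resR (X.basicOpen_le f) f) :=
      RingedSpace.isUnit_res_basicOpen (X := X.toLocallyRingedSpace.toRingedSpace) f
    refine hu.mul_right_eq_zero.1 ?_
    change resR (X.basicOpen_le f) f * resR (X.basicOpen_le f) a = 0
    rw [← map_mul, show f * a = 0 from hf0 a ha, map_zero]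
  choose D hxD hD using key
  refine Scheme.IdealSheafData.ext_of_iSup_eq_top D (eq_top_iff.2 fun x _ =>
    Opens.mem_iSup.2 ⟨x, hxD x⟩) fun x => ?_
  rw [hD, Scheme.IdealSheafData.ideal_bot]
  rfl

end Groth.Agent.Lib.Exchange.Algz.Local
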