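import Groth.Agent.Lib.Exchange.Thick.GG
import Groth.Agent.H34.HOne

/-!
# Sections of large powers lift along the levels of an adic tower
-/

set_option autoImplicit false
set_option linter.style.haveILetI false

noncomputable section

universe u

open CategoryTheory Limits AlgebraicGeometry Opposite TopologicalSpace

namespace Groth.Agent.Lib.Exchange.Algz

open Groth.Agent.Lib Groth.Agent.Lib.TensorMod.Basic Groth.Agent.Lib.Curves.LES
open Groth.Agent.Lib.Exchange.Thick
open Groth.Agent.H78.Existence.Vanish (tw isEquivalence_tw shortExact_tw)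

variable {A : Type u} [CommRing A] {J : Ideal A} {T : Tower J}

/-- The structure sheaves of the levels. -/
def unitSys (T : Tower J) [∀ k, IsLocallyNoetherian (T.X k)] : ModSys T where
  M k := Coh.structureModule (T.X k)
  coh k := Snapper.Twist.isCoh_structureModule (T.X k)
  iso k := PicLoc.pullbackStructureIso (T.i k)

/-- The powers of the levels of an invertible system. -/
def powTrans (L : ∀ k, (T.X k).Modules)
    (φ : ∀ k, (Scheme.Modules.pullback (T.i k)).obj (L (k + 1)) ≅ L k) (d k : ℕ) :
    (Scheme.Modules.pullback (T.i k)).obj (CohB1.tensorPow (L (k + 1)) d) ≅ CohB1.tensorPow (L k) d :=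
  Ample.Pow.pullbackPow (T.i k) _ d ≪≫ Ample.Pow.powIso (φ k) d

variable [IsNoetherianRing A]

/-- For large powers the restriction of global sections from a level to the previous one is onto. -/
theorem exists_surjective_unit (hp : IsProper (T.p 0)) [∀ k, IsLocallyNoetherian (T.X k)]
    (L : ∀ k, (T.X k).Modules) (hL : ∀ k, PicF.IsInvertible (L k))
    (φ : ∀ k, (Scheme.Modules.pullback (T.i k)).obj (L (k + 1)) ≅ L k) (ha : CohB1.IsAmple (L 0)) :
    ∃ d₀ : ℕ, ∀ d, d₀ ≤ d → ∀ k : ℕ, Function.Surjective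
      ((Unit.η (T.i k) (CohB1.tensorPow (L (k + 1)) d)).app ⊤) := by
  letI : (T.X 0).Over (Spec (CommRingCat.of (A ⧸ J ^ (0 + 1)))) := ⟨T.p 0⟩
  haveI : IsProper (T.X 0 ↘ Spec (CommRingCat.of (A ⧸ J ^ (0 + 1)))) := hp
  let F := unitSys T
  obtain ⟨r, f, hspan⟩ := Submodule.fg_iff_exists_fin_generating_family.1 (IsNoetherian.noetherian J)
  have hJ : J = Ideal.span (Set.range f) := hspan.symm
  have hf : ∀ j, f j ∈ J := fun j => hJ ▸ Ideal.subset_span ⟨j, rfl⟩
  obtain ⟨d₀, hd₀⟩ := Groth.Agent.H78.Existence.Vanish.exists_vanish (A ⧸ J ^ (0 + 1)) ha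
    (F.sys f hf) (F.gen_sys f hf hJ)
  refine ⟨d₀, fun d hd k => ?_⟩
  haveI h1 : Subsingleton (Coh.HH (T.X (k + 1))
      (CohB1.tensorMod (F.K (k + 1)) (CohB1.tensorPow (L (k + 1)) d)) 1) :=
    @Equiv.subsingleton _ _ (isoK A (tensorIso (F.e (k + 1))
      (Iso.refl (CohB1.tensorPow (L (k + 1)) d))) 1).toEquiv
      (subsingleton_push A (T.toT (k + 1)) (hL (k + 1)) (F.isCoh_G (k + 1)) (hL 0)
        (pullToT L φ (k + 1)) d 1 (hd₀ (k + 1) d hd 0))
  let P := CohB1.tensorPow (L (k + 1)) d
  let S : ShortComplex (T.X (k + 1)).Modules :=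
    ShortComplex.mk (F.κ (k + 1)) (F.t k) (kernel.condition _)
  haveI := F.epi_t k
  have hS : S.ShortExact :=
    { exact := S.exact_of_f_is_kernel (kernelIsKernel (F.t k))
      mono_f := F.mono_κ (k + 1)
      epi_g := inferInstanceAs (Epi (F.t k)) }
  haveI := isEquivalence_tw (hL (k + 1)) d
  haveI : (tw (L (k + 1)) d).Additive := Functor.additive_of_preserves_binary_products _
  have hS' := shortExact_tw (hL (k + 1)) hS d
  have hsurj := Groth.Agent.H34.HOne.app_top_surjective hS' h1
  let i := T.i k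
  let t' : CohB1.tensorMod (Coh.structureModule (T.X (k + 1))) P ⟶
      CohB1.tensorMod ((Scheme.Modules.pushforward i).obj (Coh.structureModule (T.X k))) P :=
    tmap (F.t k) (𝟙 P)
  haveI : Epi t' := hS'.epi_g
  let π := pushTwistIso i (hL (k + 1)) (Coh.structureModule (T.X k)) (φ k) d
  let T' : P ⟶ (Scheme.Modules.pushforward i).obj
      (CohB1.tensorMod (Coh.structureModule (T.X k)) (CohB1.tensorPow (L k) d)) :=
    (leftUnit P).inv ≫ t' ≫ π.hom
  have hT' : Function.Surjective (T'.app ⊤) :=
    (ConcreteCategory.bijective_of_isIso (π.hom.app ⊤)).2.comp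
      (hsurj.comp (ConcreteCategory.bijective_of_isIso ((leftUnit P).inv.app ⊤)).2)
  haveI : Epi (Unit.η i P) := PushClosed.Unit.epi_unit i P
  let χ := ((Scheme.Modules.pullbackPushforwardAdjunction i).homEquiv _ _).symm T'
  have hχ : Unit.η i P ≫ (Scheme.Modules.pushforward i).map χ = T' :=
    (Adjunction.homEquiv_unit _ _ _ _).symm.trans (Equiv.apply_symm_apply _ _)
  have hz : tmap (F.κ (k + 1)) (𝟙 P) ≫ (leftUnit P).hom ≫ Unit.η i P = 0 := by
    have h0 : (Scheme.Modules.pullback i).map (tmap (F.κ (k + 1)) (𝟙 P)) = 0 := by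
      have hκ : (Scheme.Modules.pullback i).map (F.κ (k + 1)) = 0 := by
        have h2 := (Scheme.Modules.pullback i).congr_map (kernel.condition (F.t k))
        rw [Functor.map_comp, Functor.map_zero] at h2
        haveI : Mono ((Scheme.Modules.pullback i).map (F.t k)) := by
          haveI : Mono ((Scheme.Modules.pullback i).map (Unit.η i (F.M (k + 1)))) :=
            (SplitMono.mk _ ((Scheme.Modules.pullbackPushforwardAdjunction i).left_triangle_components
              (F.M (k + 1)))).mono
          haveI : IsIso ((Scheme.Modules.pullback i).map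
              ((Scheme.Modules.pushforward i).map (F.iso k).hom)) := inferInstance
          rw [ModSys.t, Functor.map_comp]
          exact mono_comp _ _
        exact (cancel_mono _).1 (h2.trans zero_comp.symm)
      have hd' := TensorMod.Pullback.delta_natural i (F.κ (k + 1)) (𝟙 P)
      haveI := TensorMod.Pullback.isIso_delta i (F.M (k + 1)) P
      refine (cancel_mono (TensorMod.Pullback.delta i (F.M (k + 1)) P)).1 ?_
      rw [zero_comp]
      refine hd'.trans ?_
      rw [show (TensorMod.Pullback.pb i).map (F.κ (k + 1)) = 0 from hκ]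
      have : tmap (0 : (TensorMod.Pullback.pb i).obj (F.K (k + 1)) ⟶
          (TensorMod.Pullback.pb i).obj (F.M (k + 1))) ((TensorMod.Pullback.pb i).map (𝟙 P)) = 0 := by
        have hQ : PicF.IsInvertible ((TensorMod.Pullback.pb i).obj P) := PicLoc.isInvertible_pullback i
          (TensorMod.Invertible.isInvertible_tensorPow (hL (k + 1)) d)
        have e := TensorMod.Invertible.tensorDualIso hQ
        haveI : (tensorBy ((TensorMod.Pullback.pb i).obj P)).IsEquivalence :=
          (CategoryTheory.Equivalence.mk (tensorBy _) (tensorBy _) (ProjCoh.Coherent.cancelNat e).symm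
            (ProjCoh.Coherent.cancelNat (comm _ _ ≪≫ e))).isEquivalence_functor
        haveI : (tensorBy ((TensorMod.Pullback.pb i).obj P)).Additive :=
          Functor.additive_of_preserves_binary_products _
        rw [CategoryTheory.Functor.map_id]
        exact Functor.map_zero (tensorBy ((TensorMod.Pullback.pb i).obj P)) _ _
      rw [this, comp_zero]
    apply ((Scheme.Modules.pullbackPushforwardAdjunction i).homEquiv _ _).symm.injective
    rw [Adjunction.homEquiv_naturality_left_symm, h0, zero_comp, Adjunction.homEquiv_counit,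
      Functor.map_zero, zero_comp]
  obtain ⟨χ', hχ'⟩ : ∃ χ', T' ≫ χ' = Unit.η i P := by
    have hz' : (S.map (tw (L (k + 1)) d)).f ≫ (leftUnit P).hom ≫ Unit.η i P = 0 := hz
    haveI := hS'.epi_g
    obtain ⟨q, hq⟩ : ∃ q, t' ≫ q = (leftUnit P).hom ≫ Unit.η i P :=
      ⟨hS'.exact.desc ((leftUnit P).hom ≫ Unit.η i P) hz', hS'.exact.g_desc _ hz'⟩
    refine ⟨π.inv ≫ q, ?_⟩
    simp only [T', Category.assoc, Iso.hom_inv_id_assoc, hq, Iso.inv_hom_id_assoc]
  intro z
  obtain ⟨s, hs⟩ := hT' (((Scheme.Modules.pushforward i).map χ).app ⊤ z)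
  refine ⟨s, ?_⟩
  have hid : (Scheme.Modules.pushforward i).map χ ≫ χ' = 𝟙 _ := by
    rw [← cancel_epi (Unit.η i P), ← Category.assoc, hχ, hχ', Category.comp_id]
  have h3 : χ'.app ⊤ (T'.app ⊤ s) = (Unit.η i P).app ⊤ s :=
    ConcreteCategory.congr_hom (congrArg (fun g => g.app ⊤) hχ') s
  rw [← h3, hs]
  exact ConcreteCategory.congr_hom (congrArg (fun g => g.app ⊤) hid) z

end Groth.Agent.Lib.Exchange.Algz
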