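import Groth.Agent.Lib.Exchange.Algz.Push
import Groth.Agent.Lib.Exchange.Algz.Surj
import Groth.Agent.Lib.Exchange.Algz.Local
import Groth.Agent.H78.Existence.Construct
import Groth.Agent.Lib.ZarCoh.AnnIdeal

/-!
# A closed formal subscheme of a proper scheme with an ample module is algebraic
-/

set_option autoImplicit false
set_option linter.style.haveILetI false

noncomputable section

universe u

open CategoryTheory Limits AlgebraicGeometry Opposite TopologicalSpace

namespace Groth.Agent.Lib.Exchange.Algz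

open Groth.Agent.Lib Groth.Agent.Lib.CohBasics.Affine Groth.Agent.Lib.Exchange.Thick
open Groth.Agent.H78.Formal.Sections Groth.Agent.H78.Formal.Elem
open Groth.Agent.H30.IdealLemmas (idealSpec_ideal_top)

variable {A : Type u} [CommRing A] (J : Ideal A) {X : Scheme.{u}} [X.Over (Spec (CommRingCat.of A))]

/-- The ideal generated by `J` on a scheme over `Spec A`. -/
def jIdeal : X.IdealSheafData := (FSch.idealSpec A J).comap (X ↘ Spec (CommRingCat.of A))

theorem ideal_jIdeal (U : X.affineOpens) : (jIdeal J).ideal U = sIdeal J U.1 := by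
  rw [jIdeal, Groth.Agent.Lib.Ideal.Comap.ideal_comap (X ↘ Spec (CommRingCat.of A)) _
    ⟨⊤, isAffineOpen_top _⟩ U le_top, idealSpec_ideal_top, Ideal.map_map]
  rfl

variable {J} [IsNoetherianRing A] [IsAdicComplete J A] [IsProper (X ↘ Spec (CommRingCat.of A))]
  [IsLocallyNoetherian X] {T : Tower J} [∀ k, IsLocallyNoetherian (T.X k)]

/-- A module on `X` with the given system as its completion, with the projections. -/
theorem exists_proj {L : X.Modules} (hA : CohB1.IsAmple L) (e : ∀ k, T.X k ⟶ X)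
    [∀ k, IsClosedImmersion (e k)] (he : ∀ k, T.i k ≫ e (k + 1) = e k)
    (heo : ∀ k, e k ≫ (X ↘ Spec (CommRingCat.of A)) = T.X k ↘ Spec (CommRingCat.of A)) (F : ModSys T) :
    ∃ (M : X.Modules) (π : ∀ k, M ⟶ (Scheme.Modules.pushforward (e k)).obj (F.M k)), Coh.IsCoh M ∧
      ∀ k (U : X.Opens), IsAffineOpen U → Function.Surjective ((π k).app U) ∧ ∀ s, (π k).app U s = 0 ↔
        s ∈ sIdeal J U ^ (k + 1) • (⊤ : Submodule Γ(X, U) Γ(M, U)) := by
  obtain ⟨M, hM, ⟨α⟩⟩ := Groth.Agent.H78.Existence.Construct.exists_algebraization A hA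
    (isCohFormal_pushSys e he heo F)
  haveI := hM.1
  refine ⟨M, fun k => cπ J M k ≫ α.hom.app (op k), hM, fun k U hU => ?_⟩
  have hb := app_bijective (α.hom.app (op k)) U
  refine ⟨hb.2.comp (modPowπ_surjective J (k + 1) hU), fun s => ?_⟩
  rw [← modPowπ_eq_zero_iff J (k + 1) hU s]
  exact ⟨fun h => hb.1 (h.trans (map_zero _).symm),
    fun h => (congrArg ((α.hom.app (op k)).app U) h).trans (map_zero _)⟩

/-- **Algebraization of a closed formal subscheme.** -/
theorem exists_subscheme {L : X.Modules} (hA : CohB1.IsAmple L) (e : ∀ k, T.X k ⟶ X)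
    [∀ k, IsClosedImmersion (e k)] (he : ∀ k, T.i k ≫ e (k + 1) = e k)
    (heo : ∀ k, e k ≫ (X ↘ Spec (CommRingCat.of A)) = T.X k ↘ Spec (CommRingCat.of A)) :
    ∃ (Y : Scheme.{u}) (ι : Y ⟶ X) (w : ∀ k, T.X k ⟶ Y), IsClosedImmersion ι ∧
      (∀ k, w k ≫ ι = e k) ∧ ∀ k, (w k).ker = ((jIdeal J (X := X)) ^ (k + 1)).comap ι := by
  obtain ⟨M, π, hM, hπ⟩ := exists_proj hA e he heo (unitSys T)
  haveI := hM.1
  haveI := hM.2
  have hsurj : ∀ k (U : X.Opens), IsAffineOpen U → Function.Surjective ((e k).app U) :=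
    fun k U hU => (e k).app_surjective U hU
  have hlin : ∀ k (U : X.Opens) (r : Γ(X, U)) (v : Γ(M, U)),
      (show Γ(T.X k, e k ⁻¹ᵁ U) from (π k).app U (r • v)) =
        (e k).app U r * (show Γ(T.X k, e k ⁻¹ᵁ U) from (π k).app U v) :=
    fun k U r v => (π k).app_smul r v
  have hcyc : ∀ x : X, ∃ D : X.Opens, IsAffineOpen D ∧ x ∈ D ∧
      ∃ g : Γ(M, D), Submodule.span Γ(X, D) {g} = ⊤ := by
    refine Local.exists_cyclic J hM fun z _ => ?_
    obtain ⟨U, hU, hzU⟩ := exists_affine z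
    refine ⟨U, hU, hzU, ?_⟩
    obtain ⟨g, hg⟩ := (hπ 0 U hU).1 (1 : Γ(T.X 0, e 0 ⁻¹ᵁ U))
    refine ⟨g, fun v _ => ?_⟩
    obtain ⟨r, hr⟩ := hsurj 0 U hU ((π 0).app U v)
    have h0 : (π 0).app U (v - r • g) = 0 := by
      rw [map_sub, sub_eq_zero]
      refine Eq.symm ((hlin 0 U r g).trans ?_)
      rw [show (show Γ(T.X 0, e 0 ⁻¹ᵁ U) from (π 0).app U g) = 1 from hg, mul_one]
      exact hr
    have h1 := ((hπ 0 U hU).2 _).1 h0
    rw [zero_add, pow_one] at h1
    exact Submodule.mem_sup.2 ⟨r • g, Submodule.smul_mem _ _ (Submodule.mem_span_singleton_self g), _, h1,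
      add_sub_cancel _ _⟩
  choose D hD hxD g hg using hcyc
  let An := ZarCoh.AnnIdeal.annIdeal M
  have hker : ∀ k, (e k).ker = An ⊔ jIdeal J ^ (k + 1) := fun k => by
    refine Scheme.IdealSheafData.ext_of_iSup_eq_top (fun x => ⟨D x, hD x⟩)
      (eq_top_iff.2 fun x _ => Opens.mem_iSup.2 ⟨x, hxD x⟩) fun x => ?_
    let U := D x
    have hU : IsAffineOpen U := hD x
    rw [Scheme.IdealSheafData.ideal_sup, Pi.sup_apply, Scheme.IdealSheafData.ideal_pow, Pi.pow_apply,
      ideal_jIdeal, Scheme.Hom.ker_apply, ZarCoh.AnnIdeal.annIdeal_ideal]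
    refine le_antisymm (fun r hr => ?_) (sup_le (fun r hr => ?_) fun r hr => ?_)
    · rw [RingHom.mem_ker] at hr
      have h0 : (π k).app U (r • g x) = 0 := (hlin k U r (g x)).trans (by rw [hr, zero_mul]; rfl)
      have h1 := ((hπ k U hU).2 _).1 h0
      rw [← hg x] at h1
      obtain ⟨a, ha, hag⟩ := Submodule.mem_smul_span_singleton.1 h1
      refine Submodule.mem_sup.2 ⟨r - a, ?_, a, ha, sub_add_cancel r a⟩
      rw [Module.mem_annihilator]
      intro v
      obtain ⟨c, rfl⟩ := Submodule.mem_span_singleton.1 (show v ∈ Submodule.span Γ(X, U) {g x} by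
        rw [hg x]; trivial)
      rw [← mul_smul, mul_comm, mul_smul, sub_smul, hag, sub_self, smul_zero]
    · rw [RingHom.mem_ker]
      obtain ⟨v, hv⟩ := (hπ k U hU).1 (1 : Γ(T.X k, e k ⁻¹ᵁ U))
      have h := hlin k U r v
      rw [Module.mem_annihilator.1 hr v, map_zero,
        show (show Γ(T.X k, e k ⁻¹ᵁ U) from (π k).app U v) = 1 from hv, mul_one] at h
      exact h.symm
    · rw [RingHom.mem_ker]
      obtain ⟨v, hv⟩ := (hπ k U hU).1 (1 : Γ(T.X k, e k ⁻¹ᵁ U))
      have h := hlin k U r v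
      rw [((hπ k U hU).2 _).2 (Submodule.smul_mem_smul hr trivial),
        show (show Γ(T.X k, e k ⁻¹ᵁ U) from (π k).app U v) = 1 from hv, mul_one] at h
      exact h.symm
  have hle : ∀ k, An.subschemeι.ker ≤ (e k).ker := fun k => by
    rw [Scheme.IdealSheafData.ker_subschemeι, hker]
    exact le_sup_left
  let w : ∀ k, T.X k ⟶ An.subscheme := fun k => IsClosedImmersion.lift An.subschemeι (e k) (hle k)
  have hw : ∀ k, w k ≫ An.subschemeι = e k := fun k => IsClosedImmersion.lift_fac _ _ _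
  refine ⟨An.subscheme, An.subschemeι, w, inferInstance, hw, fun k => ?_⟩
  have hpb : IsPullback (w k) (𝟙 (T.X k)) An.subschemeι (e k) :=
    ⟨⟨(hw k).trans (Category.id_comp _).symm⟩, ⟨PullbackCone.IsLimit.mk _ (fun s => s.snd)
      (fun s => (cancel_mono An.subschemeι).1 (by rw [Category.assoc, hw, s.condition]))
      (fun s => Category.comp_id _) fun s m _ h => (Category.comp_id m).symm.trans h⟩⟩
  rw [← hpb.isoPullback_hom_fst, Scheme.Hom.ker_comp_of_isIso,
    Scheme.IdealSheafData.ker_fst_of_isClosedImmersion, hker, Scheme.IdealSheafData.comap_sup]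
  have h0 : An.comap An.subschemeι = ⊥ := le_antisymm (Scheme.IdealSheafData.le_map_iff_comap_le.1
    (by rw [Scheme.IdealSheafData.map_bot, Scheme.IdealSheafData.ker_subschemeι])) bot_le
  rw [h0, bot_sup_eq]

end Groth.Agent.Lib.Exchange.Algz
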