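import Groth.Agent.Lib.Exchange.Thick.Modules
import Groth.Agent.H78.Formal.Sys

/-!
# A compatible system on an adic tower, pushed into a fixed scheme
-/

set_option autoImplicit false
set_option linter.style.haveILetI false

noncomputable section

universe u

open CategoryTheory Limits AlgebraicGeometry Opposite TopologicalSpace

namespace Groth.Agent.Lib.Exchange.Algz

open Groth.Agent.Lib Groth.Agent.Lib.CohBasics.Affine Groth.Agent.Lib.Exchange.Thick
open Groth.Agent.H78.Formal.Sections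
open Groth.Agent.H78.Formal.PullSys (smulMod_pushforward sMap_app)

variable {A : Type u} [CommRing A]

/-- The multiples by an ideal of the base do not depend on the scheme the sections are seen on. -/
theorem mem_smul_push {Z X : Scheme.{u}} [Z.Over (Spec (CommRingCat.of A))]
    [X.Over (Spec (CommRingCat.of A))] {f : Z ⟶ X}
    (hf : f ≫ (X ↘ Spec (CommRingCat.of A)) = Z ↘ Spec (CommRingCat.of A)) (M : Z.Modules)
    (J : Ideal A) (U : X.Opens) (s : Γ(M, f ⁻¹ᵁ U)) :
    s ∈ sIdeal J (f ⁻¹ᵁ U) • (⊤ : Submodule Γ(Z, f ⁻¹ᵁ U) Γ(M, f ⁻¹ᵁ U)) ↔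
      (show Γ((Scheme.Modules.pushforward f).obj M, U) from s) ∈
        sIdeal J U • (⊤ : Submodule Γ(X, U) Γ((Scheme.Modules.pushforward f).obj M, U)) := by
  let P := sIdeal J U • (⊤ : Submodule Γ(X, U) Γ((Scheme.Modules.pushforward f).obj M, U))
  let Q := sIdeal J (f ⁻¹ᵁ U) • (⊤ : Submodule Γ(Z, f ⁻¹ᵁ U) Γ(M, f ⁻¹ᵁ U))
  have hact : ∀ (a : A) (t : Γ(M, f ⁻¹ᵁ U)),
      sMap A U a • (show Γ((Scheme.Modules.pushforward f).obj M, U) from t) =
        (show Γ((Scheme.Modules.pushforward f).obj M, U) from sMap A (f ⁻¹ᵁ U) a • t) :=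
    fun a t => congrArg (fun r : Γ(Z, f ⁻¹ᵁ U) => r • t) (sMap_app hf U a)
  let σ : Γ(M, f ⁻¹ᵁ U) →+ Γ((Scheme.Modules.pushforward f).obj M, U) := AddMonoidHom.id Γ(M, f ⁻¹ᵁ U)
  let τ : Γ((Scheme.Modules.pushforward f).obj M, U) →+ Γ(M, f ⁻¹ᵁ U) := AddMonoidHom.id Γ(M, f ⁻¹ᵁ U)
  constructor
  · intro h
    have key : ∀ r ∈ sIdeal J (f ⁻¹ᵁ U), ∀ t : Γ(M, f ⁻¹ᵁ U), σ (r • t) ∈ P := by
      intro r hr
      refine Submodule.span_induction (p := fun r _ => ∀ t : Γ(M, f ⁻¹ᵁ U), σ (r • t) ∈ P) ?_ ?_ ?_ ?_ hr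
      · rintro _ ⟨a, ha, rfl⟩ t
        have e : σ (sMap A (f ⁻¹ᵁ U) a • t) = sMap A U a • σ t := (hact a t).symm
        rw [e]
        exact Submodule.smul_mem_smul (mem_sIdeal (U := U) ha) trivial
      · intro t; rw [zero_smul, map_zero]; exact P.zero_mem
      · intro p q _ _ hp hq t; rw [add_smul, map_add]; exact P.add_mem (hp t) (hq t)
      · intro c r _ ih t
        rw [smul_eq_mul, mul_comm, mul_smul]
        exact ih (c • t)
    exact Submodule.smul_induction_on (p := fun t => σ t ∈ P) h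
      (fun r hr t _ => key r hr t) fun x y hx hy => by rw [map_add]; exact P.add_mem hx hy
  · intro h
    have hle : (sIdeal J U).map (f.app U).hom ≤ sIdeal J (f ⁻¹ᵁ U) := by
      rw [sIdeal, Ideal.map_map, Ideal.map_le_iff_le_comap]
      intro a ha
      rw [Ideal.mem_comap, RingHom.comp_apply, show (f.app U).hom (sMap A U a) =
        sMap A (f ⁻¹ᵁ U) a from sMap_app hf U a]
      exact mem_sIdeal ha
    refine Submodule.smul_induction_on (p := fun t => τ t ∈ Q) h (fun r hr t _ => ?_)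
      fun x y hx hy => by rw [map_add]; exact Q.add_mem hx hy
    have e : τ (r • t) = (f.app U r) • τ t := rfl
    rw [e]
    exact Submodule.smul_mem_smul (hle (Ideal.mem_map_of_mem _ hr)) trivial

variable {J : Ideal A} {T : Tower J} [∀ k, IsLocallyNoetherian (T.X k)]
  {X : Scheme.{u}} [X.Over (Spec (CommRingCat.of A))]
  (e : ∀ k, T.X k ⟶ X) [∀ k, IsClosedImmersion (e k)] (he : ∀ k, T.i k ≫ e (k + 1) = e k)

/-- The transition map of the pushed system. -/
def pushTrans (F : ModSys T) (k : ℕ) :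
    (Scheme.Modules.pushforward (e (k + 1))).obj (F.M (k + 1)) ⟶
      (Scheme.Modules.pushforward (e k)).obj (F.M k) :=
  (Scheme.Modules.pushforward (e (k + 1))).map (F.t k) ≫
    ((Scheme.Modules.pushforwardComp (T.i k) (e (k + 1))).hom.app (F.M k)) ≫
      ((Scheme.Modules.pushforwardCongr (he k)).hom.app (F.M k))

/-- The pushed system. -/
def pushSys (F : ModSys T) : ℕᵒᵖ ⥤ X.Modules :=
  Functor.ofOpSequence (X := fun k => (Scheme.Modules.pushforward (e k)).obj (F.M k))
    (pushTrans e he F)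

variable (heo : ∀ k, e k ≫ (X ↘ Spec (CommRingCat.of A)) = T.X k ↘ Spec (CommRingCat.of A))

include heo in
/-- The pushed system is a coherent formal module. -/
theorem isCohFormal_pushSys [IsLocallyNoetherian X] (F : ModSys T) :
    _root_.Formal.IsCohFormal J (pushSys e he F) := by
  have hc : ∀ k, Coh.IsCoh ((Scheme.Modules.pushforward (e k)).obj (F.M k)) := fun k =>
    Cyc.PP.Push.isCoh_push (e k) (F.coh k)
  refine ⟨hc, fun k a ha => ?_, fun k => ?_⟩
  · haveI := (F.coh k).1
    have h0 : _root_.Formal.KilledBy (J ^ (k + 1)) (F.M k) := (killedBy_iff _).2 fun U _ => by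
      rw [sIdeal_pow, T.sIdeal_pow_eq_bot k U, Submodule.bot_smul]
    change _root_.Formal.smulMod A ((Scheme.Modules.pushforward (e k)).obj (F.M k)) a = 0
    rw [← smulMod_pushforward (heo k), h0 a ha]
    exact Functor.map_zero _ _ _
  · have hmap : (pushSys e he F).map (homOfLE (Nat.le_succ k)).op = pushTrans e he F k :=
      Functor.ofOpSequence_map_homOfLE_succ _ k
    rw [hmap]
    haveI : ((Scheme.Modules.pushforward (e (k + 1))).obj (F.M (k + 1))).IsQuasicoherent := (hc (k + 1)).1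
    haveI : ((Scheme.Modules.pushforward (e k)).obj (F.M k)).IsQuasicoherent := (hc k).1
    have hiso : ∀ U : X.Opens, Function.Bijective (((Scheme.Modules.pushforwardComp (T.i k) (e (k + 1))).hom.app
        (F.M k) ≫ (Scheme.Modules.pushforwardCongr (he k)).hom.app (F.M k)).app U) := fun U =>
      app_bijective _ U
    have happ : ∀ (U : X.Opens) (s : Γ(F.M (k + 1), e (k + 1) ⁻¹ᵁ U)),
        (pushTrans e he F k).app U s =
          ((Scheme.Modules.pushforwardComp (T.i k) (e (k + 1))).hom.app (F.M k) ≫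
            (Scheme.Modules.pushforwardCongr (he k)).hom.app (F.M k)).app U
            ((F.t k).app (e (k + 1) ⁻¹ᵁ U) s) := fun _ _ => rfl
    refine Groth.Agent.H78.Formal.Sys.exists_isIso_desc (J ^ (k + 1)) (pushTrans e he F k)
      (fun U hU w => ?_) fun U hU s => ?_
    · obtain ⟨v, rfl⟩ := (hiso U).2 w
      obtain ⟨s, rfl⟩ := (F.t_spec k (hU.preimage (e (k + 1)))).1 v
      exact ⟨s, happ U s⟩
    · refine Iff.trans ?_ (mem_smul_push (heo (k + 1)) (F.M (k + 1)) (J ^ (k + 1)) U s)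
      rw [sIdeal_pow, ← (F.t_spec k (hU.preimage (e (k + 1)))).2]
      exact ⟨fun h => (hiso U).1 (((happ U s).symm.trans h).trans (map_zero _).symm),
        fun h => (happ U s).trans ((congrArg _ h).trans (map_zero _))⟩

end Groth.Agent.Lib.Exchange.Algz
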